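/-
A frame of hyperbolic pairs with an orthogonal rest, and the monomial elements attached to it.
-/
import Cfsg.Agent.Lib.Classical.QuadEichler

set_option autoImplicit false
set_option linter.unusedSectionVars false

namespace CfsgLib.Classical.QuadTwoGen

open QuadraticMap CfsgLib.Classical

variable {F V : Type*} [Field F] [AddCommGroup V] [Module F V]

/-- `k` hyperbolic pairs. -/
structure Frame (Q : QuadraticForm F V) (k : ℕ) where
  /-- first halves -/
  e : Fin k → V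
  /-- second halves -/
  f : Fin k → V
  qe : ∀ i, Q (e i) = 0
  qf : ∀ i, Q (f i) = 0
  ee : ∀ i j, polar Q (e i) (e j) = 0
  ff : ∀ i j, polar Q (f i) (f j) = 0
  ef : ∀ i j, polar Q (e i) (f j) = if i = j then 1 else 0

variable {Q : QuadraticForm F V} {k : ℕ} (H : Frame Q k)

/-- Orthogonal to all the pairs. -/
def Frame.Perp (x : V) : Prop := ∀ i, polar Q x (H.e i) = 0 ∧ polar Q x (H.f i) = 0

theorem Frame.fe (i j : Fin k) : polar Q (H.f i) (H.e j) = if i = j then 1 else 0 := by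
  rw [polar_comm, H.ef]
  exact if_congr eq_comm rfl rfl

theorem Frame.e_ne (i : Fin k) : H.e i ≠ 0 := fun h => by
  simpa [h] using H.ef i i

theorem Frame.f_ne (i : Fin k) : H.f i ≠ 0 := fun h => by
  simpa [h] using H.ef i i

theorem Frame.perp_left {x : V} (hx : H.Perp x) (i : Fin k) :
    polar Q (H.e i) x = 0 ∧ polar Q (H.f i) x = 0 :=
  ⟨(polar_comm Q _ _).trans (hx i).1, (polar_comm Q _ _).trans (hx i).2⟩

theorem Frame.perp_smul {x : V} (hx : H.Perp x) (t : F) : H.Perp (t • x) := fun i => by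
  simp [(hx i).1, (hx i).2]

theorem Frame.perp_sub {x y : V} (hx : H.Perp x) (hy : H.Perp y) : H.Perp (x - y) := fun i => by
  simp [polar_sub_left, (hx i).1, (hx i).2, (hy i).1, (hy i).2]

theorem Frame.decomp (x : V) :
    H.Perp (x - ∑ i, (polar Q x (H.f i) • H.e i + polar Q x (H.e i) • H.f i)) := by
  classical
  intro j
  have hs : ∀ y, polar Q (∑ i, (polar Q x (H.f i) • H.e i + polar Q x (H.e i) • H.f i)) y =
      ∑ i, (polar Q x (H.f i) * polar Q (H.e i) y + polar Q x (H.e i) * polar Q (H.f i) y) := fun y => by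
    rw [← polarBilin_apply_apply, map_sum, LinearMap.sum_apply]
    simp
  constructor <;> rw [polar_sub_left, hs] <;> simp [H.ee, H.ff, H.ef, H.fe]

/-- Automorphisms agreeing on the pairs and on their orthogonal are equal. -/
theorem Frame.ext {g h : qAut Q} (he : ∀ i, g.1 (H.e i) = h.1 (H.e i))
    (hf : ∀ i, g.1 (H.f i) = h.1 (H.f i)) (hp : ∀ x, H.Perp x → g.1 x = h.1 x) : g = h := by
  refine qAut_ext fun x => ?_
  rw [← sub_add_cancel x (∑ i, (polar Q x (H.f i) • H.e i + polar Q x (H.e i) • H.f i)), map_add, map_add,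
    hp _ (H.decomp x), map_sum, map_sum]
  congr 1
  exact Finset.sum_congr rfl fun i _ => by simp only [map_add, map_smul, he, hf]

/-- The root element `e_j ↦ e_j + t e_i`. -/
noncomputable def Frame.X (i j : Fin k) (t : F) : qAut Q := eich Q (H.e i) (-(t • H.f j))

theorem Frame.X_polar {i j : Fin k} (hij : i ≠ j) (t : F) :
    polar Q (H.e i) (-(t • H.f j)) = 0 := by
  simp [H.ef, hij]

theorem Frame.X_apply {i j : Fin k} (hij : i ≠ j) (t : F) (x : V) :
    (H.X i j t).1 x = x + (t * polar Q x (H.f j)) • H.e i - (t * polar Q x (H.e i)) • H.f j := by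
  rw [Frame.X, eich_apply Q (H.qe i) (H.X_polar hij t), QuadraticMap.map_neg, quad_smul, H.qf,
    polar_neg_right, polar_smul_right, smul_eq_mul]
  module

theorem Frame.X_mem {i j : Fin k} (hij : i ≠ j) (t : F) : H.X i j t ∈ eichGroup Q :=
  eich_mem Q (H.qe i) (H.X_polar hij t)

/-- The signed exchange `e_i ↦ e_j ↦ -e_i`. -/
noncomputable def Frame.N (i j : Fin k) : qAut Q := H.X j i 1 * H.X i j (-1) * H.X j i 1

theorem Frame.N_mem {i j : Fin k} (hij : i ≠ j) : H.N i j ∈ eichGroup Q :=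
  mul_mem (mul_mem (H.X_mem hij.symm 1) (H.X_mem hij _)) (H.X_mem hij.symm 1)

theorem Frame.N_apply {i j : Fin k} (hij : i ≠ j) (x : V) :
    (H.N i j).1 x = x + polar Q x (H.f i) • (H.e j - H.e i) - polar Q x (H.f j) • (H.e i + H.e j) +
      polar Q x (H.e i) • (H.f j - H.f i) - polar Q x (H.e j) • (H.f i + H.f j) := by
  simp only [Frame.N, qAut_mul_apply, H.X_apply hij, H.X_apply hij.symm, polar_add_left, polar_sub_left,
    polar_smul_left, H.ee, H.ff, H.ef, H.fe, hij, hij.symm, if_false, if_true, smul_eq_mul]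
  module

theorem Frame.N_e_left {i j : Fin k} (hij : i ≠ j) : (H.N i j).1 (H.e i) = H.e j := by
  rw [H.N_apply hij]; simp [H.ee, H.ef, hij]

theorem Frame.N_e_right {i j : Fin k} (hij : i ≠ j) : (H.N i j).1 (H.e j) = -H.e i := by
  rw [H.N_apply hij]; simp [H.ee, H.ef, hij.symm]

theorem Frame.N_f_left {i j : Fin k} (hij : i ≠ j) : (H.N i j).1 (H.f i) = H.f j := by
  rw [H.N_apply hij]; simp [H.ff, H.fe, hij]

theorem Frame.N_f_right {i j : Fin k} (hij : i ≠ j) : (H.N i j).1 (H.f j) = -H.f i := by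
  rw [H.N_apply hij]; simp [H.ff, H.fe, hij.symm]

theorem Frame.N_e_other {i j l : Fin k} (hij : i ≠ j) (hi : l ≠ i) (hj : l ≠ j) :
    (H.N i j).1 (H.e l) = H.e l := by
  rw [H.N_apply hij]; simp [H.ee, H.ef, hi, hj]

theorem Frame.N_f_other {i j l : Fin k} (hij : i ≠ j) (hi : l ≠ i) (hj : l ≠ j) :
    (H.N i j).1 (H.f l) = H.f l := by
  rw [H.N_apply hij]; simp [H.ff, H.fe, hi, hj]

theorem Frame.N_perp {i j : Fin k} (hij : i ≠ j) {x : V} (hx : H.Perp x) : (H.N i j).1 x = x := by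
  rw [H.N_apply hij]; simp [(hx i).1, (hx i).2, (hx j).1, (hx j).2]

theorem Frame.refl_ne (i : Fin k) {c : F} (hc : c ≠ 0) : Q (H.e i + c • H.f i) ≠ 0 := by
  rw [quad_add, quad_smul, H.qe, H.qf, polar_smul_right, H.ef]
  simpa using hc

theorem Frame.q_refl (i : Fin k) (c : F) : Q (H.e i + c • H.f i) = c := by
  rw [quad_add, quad_smul, H.qe, H.qf, polar_smul_right, H.ef]
  simp

/-- The reflection exchanging the halves of one pair. -/
noncomputable def Frame.R (i : Fin k) (c : Fˣ) : qAut Q := qRefl Q (H.refl_ne i c.ne_zero)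

theorem Frame.R_apply (i : Fin k) (c : Fˣ) (x : V) :
    (H.R i c).1 x = x - ((c : F)⁻¹ * polar Q x (H.e i) + polar Q x (H.f i)) • (H.e i + (c : F) • H.f i) := by
  rw [Frame.R, qRefl_apply, H.q_refl, polar_add_right, polar_smul_right, smul_eq_mul, mul_add,
    inv_mul_cancel_left₀ c.ne_zero]

theorem Frame.R_e (i : Fin k) (c : Fˣ) : (H.R i c).1 (H.e i) = -((c : F) • H.f i) := by
  rw [H.R_apply]; simp [H.ee, H.ef]

theorem Frame.R_f (i : Fin k) (c : Fˣ) : (H.R i c).1 (H.f i) = -((c : F)⁻¹ • H.e i) := by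
  rw [H.R_apply]; simp [H.ff, H.fe, smul_smul, inv_mul_cancel₀ c.ne_zero]

theorem Frame.R_e_other {i l : Fin k} (h : l ≠ i) (c : Fˣ) : (H.R i c).1 (H.e l) = H.e l := by
  rw [H.R_apply]; simp [H.ee, H.ef, h]

theorem Frame.R_f_other {i l : Fin k} (h : l ≠ i) (c : Fˣ) : (H.R i c).1 (H.f l) = H.f l := by
  rw [H.R_apply]; simp [H.ff, H.fe, h]

theorem Frame.R_perp (i : Fin k) (c : Fˣ) {x : V} (hx : H.Perp x) : (H.R i c).1 x = x := by
  rw [H.R_apply]; simp [(hx i).1, (hx i).2]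

/-- Scaling one pair. -/
noncomputable def Frame.D (i : Fin k) (c : Fˣ) : qAut Q := H.R i 1 * H.R i c⁻¹

theorem Frame.D_e (i : Fin k) (c : Fˣ) : (H.D i c).1 (H.e i) = (c : F)⁻¹ • H.e i := by
  rw [Frame.D, qAut_mul_apply, H.R_e, map_neg, map_smul, H.R_f]
  simp

theorem Frame.D_f (i : Fin k) (c : Fˣ) : (H.D i c).1 (H.f i) = (c : F) • H.f i := by
  rw [Frame.D, qAut_mul_apply, H.R_f, map_neg, map_smul, H.R_e]
  simp

theorem Frame.D_e_other {i l : Fin k} (h : l ≠ i) (c : Fˣ) : (H.D i c).1 (H.e l) = H.e l := by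
  rw [Frame.D, qAut_mul_apply, H.R_e_other h, H.R_e_other h]

theorem Frame.D_f_other {i l : Fin k} (h : l ≠ i) (c : Fˣ) : (H.D i c).1 (H.f l) = H.f l := by
  rw [Frame.D, qAut_mul_apply, H.R_f_other h, H.R_f_other h]

theorem Frame.D_perp (i : Fin k) (c : Fˣ) {x : V} (hx : H.Perp x) : (H.D i c).1 x = x := by
  rw [Frame.D, qAut_mul_apply, H.R_perp i _ hx, H.R_perp i _ hx]

theorem Frame.D_mul (i : Fin k) (c d : Fˣ) : H.D i c * H.D i d = H.D i (c * d) := by
  refine H.ext (fun l => ?_) (fun l => ?_) fun x hx => ?_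
  · rw [qAut_mul_apply]
    by_cases h : l = i
    · subst h
      simp only [H.D_e, map_smul, smul_smul, Units.val_mul]
      congr 1
      rw [mul_inv]; ring
    · simp only [H.D_e_other h]
  · rw [qAut_mul_apply]
    by_cases h : l = i
    · subst h
      simp only [H.D_f, map_smul, smul_smul, Units.val_mul]
      congr 1
      ring
    · simp only [H.D_f_other h]
  · rw [qAut_mul_apply, H.D_perp i _ hx, H.D_perp i _ hx, H.D_perp i _ hx]

theorem Frame.D_one (i : Fin k) : H.D i 1 = 1 :=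
  mul_eq_left.1 ((H.D_mul i 1 1).trans (by rw [mul_one]))

theorem Frame.D_pow (i : Fin k) (c : Fˣ) (n : ℕ) : H.D i c ^ n = H.D i (c ^ n) := by
  induction n with
  | zero => rw [pow_zero, pow_zero, H.D_one]
  | succ n ih => rw [pow_succ, pow_succ, ih, H.D_mul]

variable [Fintype F] [FiniteDimensional F V]

theorem Frame.D_abel (hQ : PolarNondeg Q) {w : V} (hw : Q w ≠ 0) (i : Fin k) (c : Fˣ)
    (h : Q w = 1) {v : V} (hv : Q v ≠ 0) (hvc : Q v = (c : F)⁻¹) :
    Abelianization.of (H.D i c) = Abelianization.of (qRefl Q hw) * Abelianization.of (qRefl Q hv) := by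
  rw [Frame.D, map_mul, Frame.R, Frame.R,
    isConj_refl_of_sq Q hQ (H.refl_ne i (1 : Fˣ).ne_zero) hw (by rw [H.q_refl, h]; simp),
    isConj_refl_of_sq Q hQ (H.refl_ne i (c⁻¹ : Fˣ).ne_zero) hv
      (by rw [H.q_refl, hvc, Units.val_inv_eq_inv_val]; exact ⟨_, rfl⟩)]

theorem mem_commutator_of {G : Type*} [Group G] {g : G} (h : Abelianization.of g = 1) : g ∈ commutator G := by
  rwa [← Abelianization.ker_of, MonoidHom.mem_ker]

theorem Frame.D_pair_mem (hQ : PolarNondeg Q) (i j : Fin k) (c : Fˣ) :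
    H.D i c * H.D j c ∈ commutator (qAut Q) := by
  refine mem_commutator_of ?_
  have h1 := H.refl_ne i (one_ne_zero (α := F))
  have h2 := H.refl_ne i (inv_ne_zero c.ne_zero)
  rw [map_mul, H.D_abel hQ h1 i c (H.q_refl i 1) h2 (H.q_refl i _),
    H.D_abel hQ h1 j c (H.q_refl i 1) h2 (H.q_refl i _),
    mul_mul_mul_comm, ← map_mul, ← map_mul, qRefl_mul_self, qRefl_mul_self, map_one, mul_one]

theorem Frame.flip_mem (hQ : PolarNondeg Q) (i : Fin k) {u : V} (hu : Q u ≠ 0) :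
    H.R i (Units.mk0 _ hu) * qRefl Q hu ∈ commutator (qAut Q) := by
  refine mem_commutator_of ?_
  rw [map_mul, Frame.R,
    isConj_refl_of_sq Q hQ _ hu (by rw [H.q_refl]; exact ⟨_, rfl⟩), ← map_mul, qRefl_mul_self, map_one]

/-- The cycle of the first `n + 1` pairs. -/
theorem Frame.exists_cycle (n : ℕ) (hn : n < k) :
    ∃ C ∈ eichGroup Q, (∀ x, H.Perp x → C.1 x = x) ∧
      (∀ i j : Fin k, i.val + 1 = j.val → j.val ≤ n → C.1 (H.e i) = H.e j ∧ C.1 (H.f i) = H.f j) ∧
      (∃ c c' : F, C.1 (H.e ⟨n, hn⟩) = c • H.e ⟨0, by omega⟩ ∧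
        C.1 (H.f ⟨n, hn⟩) = c' • H.f ⟨0, by omega⟩) ∧
      ∀ l : Fin k, n < l.val → C.1 (H.e l) = H.e l ∧ C.1 (H.f l) = H.f l := by
  induction n with
  | zero =>
    exact ⟨1, one_mem _, fun _ _ => rfl, fun i j h h' => by omega,
      ⟨1, 1, (one_smul _ _).symm, (one_smul _ _).symm⟩, fun _ _ => ⟨rfl, rfl⟩⟩
  | succ n ih =>
    obtain ⟨C, hC, hp, hcyc, ⟨c, c', hce, hcf⟩, hfix⟩ := ih (by omega)
    set i0 : Fin k := ⟨n, by omega⟩ with hi0
    set j0 : Fin k := ⟨n + 1, hn⟩ with hj0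
    have hij : i0 ≠ j0 := by simp [hi0, hj0]
    refine ⟨C * H.N i0 j0, mul_mem hC (H.N_mem hij), fun x hx => ?_, fun i j h h' => ?_,
      ⟨-c, -c', ?_, ?_⟩, fun l hl => ?_⟩
    · rw [qAut_mul_apply, H.N_perp hij hx, hp x hx]
    · rw [qAut_mul_apply, qAut_mul_apply]
      rcases Nat.lt_or_ge j.val (n + 1) with hj | hj
      · have h1 : i ≠ i0 := fun e => by rw [e, hi0] at h; simp only at h; omega
        have h2 : i ≠ j0 := fun e => by rw [e, hj0] at h; simp only at h; omega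
        rw [H.N_e_other hij h1 h2, H.N_f_other hij h1 h2]
        exact hcyc i j h (by omega)
      · obtain rfl : j = j0 := Fin.ext (show j.val = n + 1 by omega)
        obtain rfl : i = i0 := Fin.ext (show i.val = n by simp only [hj0] at h; omega)
        rw [H.N_e_left hij, H.N_f_left hij]
        exact hfix j0 (show n < n + 1 by omega)
    · rw [qAut_mul_apply, H.N_e_right hij, map_neg, hce, neg_smul]
    · rw [qAut_mul_apply, H.N_f_right hij, map_neg, hcf, neg_smul]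
    · have h1 : l ≠ i0 := fun e => by rw [e, hi0] at hl; simp only at hl; omega
      have h2 : l ≠ j0 := fun e => by rw [e, hj0] at hl; simp only at hl; omega
      rw [qAut_mul_apply, qAut_mul_apply, H.N_e_other hij h1 h2, H.N_f_other hij h1 h2]
      exact hfix l (by omega)

/-- The signed cycle with one exchange, acting on the rest by a reflection. -/
theorem Frame.exists_monomial (hQ : PolarNondeg Q) (hn : 5 ≤ Module.finrank F V) (hk : 2 ≤ k) {u : V}
    (hu : Q u ≠ 0) (hup : H.Perp u) :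
    ∃ b ∈ commutator (qAut Q), (∀ x, H.Perp x → b.1 x = (qRefl Q hu).1 x) ∧
      (∀ i j : Fin k, i.val + 1 = j.val → b.1 (H.e i) = H.e j ∧ b.1 (H.f i) = H.f j) ∧
      ∃ c c' : F, c ≠ 0 ∧ c' ≠ 0 ∧ b.1 (H.e ⟨k - 1, by omega⟩) = c • H.f ⟨0, by omega⟩ ∧
        b.1 (H.f ⟨k - 1, by omega⟩) = c' • H.e ⟨0, by omega⟩ := by
  obtain ⟨C, hC, hp, hcyc, ⟨c, c', hce, hcf⟩, -⟩ := H.exists_cycle (k - 1) (by omega)
  set z0 : Fin k := ⟨0, by omega⟩ with hz0
  set fl := H.R z0 (Units.mk0 _ hu) * qRefl Q hu with hfl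
  have hue : ∀ l, (qRefl Q hu).1 (H.e l) = H.e l := fun l => qRefl_fix Q hu (H.perp_left hup l).1
  have huf : ∀ l, (qRefl Q hu).1 (H.f l) = H.f l := fun l => qRefl_fix Q hu (H.perp_left hup l).2
  refine ⟨fl * C, mul_mem (H.flip_mem hQ z0 hu) (eichGroup_eq_commutator Q hQ hn ▸ hC), fun x hx => ?_,
    fun i j h => ?_, c * -Q u, c' * -(Q u)⁻¹, ?_, ?_, ?_, ?_⟩
  · rw [qAut_mul_apply, hp x hx, hfl, qAut_mul_apply, H.R_perp]
    rw [qRefl_apply]
    exact H.perp_sub hx (H.perp_smul hup _)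
  · have hj : j ≠ z0 := fun e => by rw [e, hz0] at h; simp only at h; omega
    obtain ⟨h1, h2⟩ := hcyc i j h (by omega)
    constructor
    · rw [qAut_mul_apply, h1, hfl, qAut_mul_apply, hue, H.R_e_other hj]
    · rw [qAut_mul_apply, h2, hfl, qAut_mul_apply, huf, H.R_f_other hj]
  · refine mul_ne_zero ?_ (neg_ne_zero.2 hu)
    rintro rfl
    rw [zero_smul] at hce
    exact H.e_ne _ ((LinearEquiv.map_eq_zero_iff _).1 hce)
  · refine mul_ne_zero ?_ (neg_ne_zero.2 (inv_ne_zero hu))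
    rintro rfl
    rw [zero_smul] at hcf
    exact H.f_ne _ ((LinearEquiv.map_eq_zero_iff _).1 hcf)
  · rw [qAut_mul_apply, hce, map_smul, hfl, qAut_mul_apply, hue, H.R_e, Units.val_mk0]
    simp [smul_smul]
  · rw [qAut_mul_apply, hcf, map_smul, hfl, qAut_mul_apply, huf, H.R_f, Units.val_mk0]
    simp [smul_smul]

end CfsgLib.Classical.QuadTwoGen
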