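/-
The commutator subgroup of the automorphism group of a quadratic space with enough hyperbolic pairs
is generated by two elements.
-/
import Cfsg.Agent.Lib.Classical.QuadTwoGen.Frame

set_option autoImplicit false
set_option linter.unusedSectionVars false

namespace CfsgLib.Classical.QuadTwoGen

open QuadraticMap CfsgLib.Classical
open scoped commutatorElement

variable {F V : Type*} [Field F] [AddCommGroup V] [Module F V]

/-- A property closed under subtraction and holding at all even powers of a generator holds everywhere. -/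
theorem all_of_even_powers [Finite F] {x : Fˣ} (hx : ∀ y : Fˣ, y ∈ Subgroup.zpowers x) (P : F → Prop)
    (hsub : ∀ s t, P s → P t → P (s - t)) (hP : ∀ n : ℕ, P ((x : F) ^ (2 * n))) (t : F) : P t := by
  haveI := Fintype.ofFinite F
  have h0 : P 0 := by have := hsub _ _ (hP 0) (hP 0); rwa [sub_self] at this
  have hsq : ∀ r : F, P (r * r) := by
    intro r
    by_cases hr : r = 0
    · rw [hr, zero_mul]; exact h0
    obtain ⟨n, hn⟩ := (mem_powers_iff_mem_zpowers).2 (hx (Units.mk0 r hr))
    have hn' : (x : F) ^ n = r := by simpa using congrArg Units.val hn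
    have := hP n
    rwa [two_mul, pow_add, hn'] at this
  by_cases h2 : (2 : F) = 0
  · haveI : CharP F 2 := CharTwo.of_one_ne_zero_of_two_eq_zero one_ne_zero h2
    obtain ⟨r, rfl⟩ := FiniteField.isSquare_of_char_two (ringChar.eq F 2) t
    exact hsq r
  · have h := hsub _ _ (hsq ((t + 1) / 2)) (hsq ((t - 1) / 2))
    rwa [show (t + 1) / 2 * ((t + 1) / 2) - (t - 1) / 2 * ((t - 1) / 2) = t by field_simp; ring] at h

variable {Q : QuadraticForm F V} {k : ℕ} (H : Frame Q k) {K : Subgroup (qAut Q)}

theorem eich_move_mem {g : qAut Q} (hg : g ∈ K) {v w : V} (hv : Q v = 0) (h : polar Q v w = 0)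
    (hK : eich Q v w ∈ K) : eich Q (g.1 v) (g.1 w) ∈ K := by
  rw [← eich_conj Q g hv h]
  exact mul_mem (mul_mem hg hK) (inv_mem hg)

theorem eich_sub_mem {v w w' : V} (hv : Q v = 0) (h : polar Q v w = 0) (h' : polar Q v w' = 0)
    (hK : eich Q v w ∈ K) (hK' : eich Q v w' ∈ K) : eich Q v (w - w') ∈ K := by
  have := mul_mem hK (inv_mem hK')
  rwa [eich_inv Q hv h', eich_mul Q hv h (by rw [polar_neg_right, h', neg_zero]), ← sub_eq_add_neg] at this

theorem eich_pow {v w : V} (hv : Q v = 0) (h : polar Q v w = 0) (n : ℕ) :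
    eich Q v w ^ n = eich Q v ((n : F) • w) := by
  induction n with
  | zero => rw [pow_zero, Nat.cast_zero, zero_smul, eich_zero Q hv]
  | succ n ih =>
    rw [pow_succ, ih, eich_mul Q hv (by rw [polar_smul_right, h, smul_zero]) h, Nat.cast_succ, add_smul,
      one_smul]

/-- The short elements at a singular vector. -/
def Frame.Short (K : Subgroup (qAut Q)) (v : V) : Prop := ∀ w, H.Perp w → eich Q v w ∈ K

/-- All elements at a singular vector. -/
def All (K : Subgroup (qAut Q)) (v : V) : Prop := ∀ w, polar Q v w = 0 → eich Q v w ∈ K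

theorem All.move {v : V} (hv : Q v = 0) (h : All K v) {g : qAut Q} (hg : g ∈ K) : All K (g.1 v) := by
  intro w hw
  obtain ⟨w', rfl⟩ := g.1.surjective w
  rw [qAut_polar] at hw
  exact eich_move_mem hg hv hw (h w' hw)

theorem All.smul {v : V} (hv : Q v = 0) (h : All K v) (c : F) : All K (c • v) := by
  intro w hw
  by_cases hc : c = 0
  · have e : eich Q (c • v) w = 1 := qAut_ext fun x => by
      rw [eich_apply Q (by rw [quad_smul, hv, mul_zero]) hw, hc]
      simp
    rw [e]; exact one_mem K
  · rw [polar_smul_left, smul_eq_mul, mul_eq_zero, or_iff_right hc] at hw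
    rw [eich_smul_left Q hv hw]
    exact h _ (by rw [polar_smul_right, hw, smul_zero])

theorem Frame.Short.long {v v' s t : V} (hv : Q v = 0) (hv' : Q v' = 0) (hvv : polar Q v v' = 0)
    (hs : H.Perp s) (ht : H.Perp t) (hst : polar Q t s ≠ 0) (hvp : ∀ x, H.Perp x → polar Q v x = 0)
    (hvp' : ∀ x, H.Perp x → polar Q v' x = 0) (h : H.Short K v) (h' : H.Short K v') (c : F) :
    eich Q v' (c • v) ∈ K := by
  set s' := (-c / polar Q t s) • s with hs'
  have hs'p : H.Perp s' := H.perp_smul hs _
  have hts : polar Q t s' = -c := by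
    rw [hs', polar_smul_right, smul_eq_mul, div_mul_cancel₀ _ hst]
  have hg := h s' hs'p
  have h1 : (eich Q v s').1 v' = v' := by
    rw [eich_apply Q hv (hvp _ hs'p), polar_comm Q v' v, hvv, hvp' _ hs'p]
    simp
  have h2 : (eich Q v s').1 t = t + c • v := by
    rw [eich_apply Q hv (hvp _ hs'p), polar_comm Q t v, hvp _ ht, hts]
    simp
  have h3 := eich_move_mem hg hv' (hvp' _ ht) (h' t ht)
  rw [h1, h2] at h3
  have h4 := eich_sub_mem hv' (by rw [polar_add_right, hvp' _ ht, polar_smul_right, polar_comm Q v' v, hvv,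
    smul_zero, add_zero]) (hvp' _ ht) h3 (h' t ht)
  rwa [add_sub_cancel_left] at h4

variable [Fintype F] [FiniteDimensional F V]

theorem Frame.exists_two_generators (hQ : PolarNondeg Q) (hn : 5 ≤ Module.finrank F V) {u z : V}
    (hu : Q u ≠ 0) (hup : H.Perp u) (hzp : H.Perp z) (hz : z ≠ 0)
    (hcov : ∀ x, H.Perp x → ∃ c d : F, x = c • z + d • (qRefl Q hu).1 z)
    (hk : 3 ≤ k ∨ (2 ≤ k ∧ (2 : F) ≠ 0 ∧ ∀ x, H.Perp x → ∃ d : F, x = d • (qRefl Q hu).1 z)) :
    ∃ a b : qAut Q, Subgroup.closure ({a, b} : Set (qAut Q)) = commutator (qAut Q) := by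
  classical
  have hk2 : 2 ≤ k := by rcases hk with h | ⟨h, -⟩ <;> omega
  set τ := qRefl Q hu with hτ
  set z' := τ.1 z with hz'
  have hττ : ∀ x, τ.1 (τ.1 x) = x := fun x => by rw [← qAut_mul_apply, hτ, qRefl_mul_self]; rfl
  have hτp : ∀ x, H.Perp x → H.Perp (τ.1 x) := fun x hx => by
    rw [hτ, qRefl_apply]; exact H.perp_sub hx (H.perp_smul hup _)
  have hzp' : H.Perp z' := hτp z hzp
  obtain ⟨b, hb, hbp, hbcyc, c, c', hc, hc', hbe, hbf⟩ := H.exists_monomial hQ hn hk2 hu hup
  have hEC := eichGroup_eq_commutator Q hQ hn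
  set i0 : Fin k := ⟨0, by omega⟩ with hi0
  set i1 : Fin k := ⟨1, by omega⟩ with hi1
  have h01 : i0 ≠ i1 := by simp [hi0, hi1]
  have hb01 : b.1 (H.e i0) = H.e i1 := (hbcyc i0 i1 rfl).1
  obtain ⟨lam, hlam⟩ := IsCyclic.exists_generator (α := Fˣ)
  have hq : 2 ≤ Fintype.card F := Fintype.one_lt_card
  have hq1 : ((Fintype.card F - 1 : ℕ) : F) ≠ 0 := by
    rw [Nat.cast_sub (by omega), FiniteField.cast_card_eq_zero, Nat.cast_one, zero_sub]
    exact neg_ne_zero.2 one_ne_zero
  have hpw : ∀ x : Fˣ, x ^ (Fintype.card F - 1) = 1 := fun x => by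
    rw [← Fintype.card_units]; exact pow_card_eq_one
  have hperpe : ∀ i (x : V), H.Perp x → polar Q (H.e i) x = 0 := fun i x hx => (H.perp_left hx i).1
  have hperpf : ∀ i (x : V), H.Perp x → polar Q (H.f i) x = 0 := fun i x hx => (H.perp_left hx i).2
  obtain ⟨g, N, hgC, hN, hgN, hg0, hgz, hgK⟩ : ∃ (g : qAut Q) (N : ℕ), g ∈ commutator (qAut Q) ∧ (N : F) ≠ 0 ∧
      g ^ N = 1 ∧ g.1 (H.e i0) = H.e i0 ∧ g.1 z = z ∧
      ∀ K : Subgroup (qAut Q), g ∈ K → b ∈ K → eich Q (H.e i0) z ∈ K → H.Short K (H.e i1) := by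
    have hstart : ∀ K : Subgroup (qAut Q), b ∈ K → eich Q (H.e i0) z ∈ K → eich Q (H.e i1) z' ∈ K := by
      intro K hbK hs
      have := eich_move_mem hbK (H.qe i0) (hperpe i0 z hzp) hs
      rwa [hb01, hbp z hzp] at this
    rcases hk with h3 | ⟨-, h2, hcov1⟩
    · set i2 : Fin k := ⟨2, by omega⟩ with hi2
      have h12 : i1 ≠ i2 := by simp [hi1, hi2]
      have h02 : i0 ≠ i2 := by simp [hi0, hi2]
      have hb12 : b.1 (H.e i1) = H.e i2 := (hbcyc i1 i2 rfl).1
      set s : Fˣ := (-lam)⁻¹ with hs
      set h := H.D i1 s * H.D i2 s with hh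
      have he1 : h.1 (H.e i1) = (s : F)⁻¹ • H.e i1 := by
        rw [hh, qAut_mul_apply, H.D_e_other h12, H.D_e]
      have he2 : h.1 (H.e i2) = (s : F)⁻¹ • H.e i2 := by
        rw [hh, qAut_mul_apply, H.D_e, map_smul, H.D_e_other h12.symm]
      have hf1 : h.1 (H.f i1) = (s : F) • H.f i1 := by
        rw [hh, qAut_mul_apply, H.D_f_other h12, H.D_f]
      have hf2 : h.1 (H.f i2) = (s : F) • H.f i2 := by
        rw [hh, qAut_mul_apply, H.D_f, map_smul, H.D_f_other h12.symm]
      have he0 : h.1 (H.e i0) = H.e i0 := by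
        rw [hh, qAut_mul_apply, H.D_e_other h02, H.D_e_other h01]
      have hhp : ∀ x, H.Perp x → h.1 x = x := fun x hx => by
        rw [hh, qAut_mul_apply, H.D_perp i2 s hx, H.D_perp i1 s hx]
      have hhpow : ∀ n : ℕ, h ^ n = H.D i1 (s ^ n) * H.D i2 (s ^ n) := by
        have hc : Commute (H.D i1 s) (H.D i2 s) := H.ext (fun l => by
            rw [qAut_mul_apply, qAut_mul_apply]
            by_cases l1 : l = i1
            · subst l1; simp only [H.D_e_other h12, H.D_e, map_smul]
            by_cases l2 : l = i2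
            · subst l2; simp only [H.D_e_other h12.symm, H.D_e, map_smul]
            simp only [H.D_e_other l1, H.D_e_other l2]) (fun l => by
            rw [qAut_mul_apply, qAut_mul_apply]
            by_cases l1 : l = i1
            · subst l1; simp only [H.D_f_other h12, H.D_f, map_smul]
            by_cases l2 : l = i2
            · subst l2; simp only [H.D_f_other h12.symm, H.D_f, map_smul]
            simp only [H.D_f_other l1, H.D_f_other l2]) fun x hx => by
            simp only [qAut_mul_apply, H.D_perp _ _ hx]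
        intro n
        rw [hh, hc.mul_pow, H.D_pow, H.D_pow]
      have hhq : h ^ (Fintype.card F - 1) = 1 := by rw [hhpow, hpw, H.D_one, H.D_one, one_mul]
      have hcommX : ∀ i j : Fin k, (i = i1 ∧ j = i2 ∨ i = i2 ∧ j = i1) → ∀ t : F, Commute h (H.X i j t) := by
        intro i j hij t
        have hne : i ≠ j := by rcases hij with ⟨rfl, rfl⟩ | ⟨rfl, rfl⟩ <;> [exact h12; exact h12.symm]
        have hi : h.1 (H.e i) = (s : F)⁻¹ • H.e i := by rcases hij with ⟨rfl, -⟩ | ⟨rfl, -⟩ <;> assumption
        have hj : h.1 (H.f j) = (s : F) • H.f j := by rcases hij with ⟨-, rfl⟩ | ⟨-, rfl⟩ <;> assumption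
        have hc := eich_conj Q h (H.qe i) (H.X_polar hne t)
        rw [hi, map_neg, map_smul, hj, eich_smul_left Q (H.qe i) (by simp [H.ef, hne]), smul_neg, smul_smul,
          smul_smul, show (s : F)⁻¹ * t * s = t by field_simp] at hc
        exact mul_inv_eq_iff_eq_mul.1 hc
      obtain ⟨y, d, hd, hyC, hy0, hyp, hy2, hyd, hyh⟩ : ∃ (y : qAut Q) (d : ℕ), (d : F) ≠ 0 ∧
          y ∈ eichGroup Q ∧ y.1 (H.e i0) = H.e i0 ∧ (∀ x, H.Perp x → y.1 x = x) ∧
          y.1 (H.e i2) = -H.e i1 ∧ y ^ d = 1 ∧ Commute h y := by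
        by_cases h2 : (2 : F) = 0
        · haveI : CharP F 2 := CharTwo.of_one_ne_zero_of_two_eq_zero one_ne_zero h2
          have hneg : ∀ v : V, -v = v := fun v => by
            rw [neg_eq_iff_add_eq_zero, ← two_smul F v, h2, zero_smul]
          set y := H.X i2 i1 1 * H.X i1 i2 1 with hy
          have hya : ∀ x, y.1 x = (H.X i2 i1 1).1 ((H.X i1 i2 1).1 x) := fun x => rfl
          have hye1 : y.1 (H.e i1) = H.e i1 + H.e i2 := by
            simp [hya, H.X_apply h12.symm, H.X_apply h12, H.ee, H.ef, h12]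
          have hye2 : y.1 (H.e i2) = H.e i1 := by
            simp [hya, H.X_apply h12.symm, H.X_apply h12, H.ee, H.ef, h12.symm]
            linear_combination (norm := module) h2 • H.e i2
          have hyf1 : y.1 (H.f i1) = H.f i2 := by
            simp [hya, H.X_apply h12.symm, H.X_apply h12, H.ff, H.fe, h12, h12.symm, polar_sub_left, hneg,
              sub_eq_add_neg]
            linear_combination (norm := module) h2 • H.f i1
          have hyf2 : y.1 (H.f i2) = H.f i1 + H.f i2 := by
            simp [hya, H.X_apply h12.symm, H.X_apply h12, H.ff, H.fe, h12.symm, hneg, sub_eq_add_neg, add_comm]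
          refine ⟨y, 3, ?_, mul_mem (H.X_mem h12.symm 1) (H.X_mem h12 1), ?_, fun x hx => ?_, ?_, ?_,
            (hcommX i2 i1 (Or.inr ⟨rfl, rfl⟩) 1).mul_right (hcommX i1 i2 (Or.inl ⟨rfl, rfl⟩) 1)⟩
          · rw [show ((3 : ℕ) : F) = 2 + 1 by norm_num, h2, zero_add]; exact one_ne_zero
          · simp [hya, H.X_apply h12.symm, H.X_apply h12, H.ee, H.ef, h01, h02]
          · simp [hya, H.X_apply h12.symm, H.X_apply h12, (hx i1).1, (hx i1).2, (hx i2).1, (hx i2).2]
          · rw [hneg, hye2]
          · refine H.ext (fun l => ?_) (fun l => ?_) fun x hx => ?_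
            all_goals rw [pow_succ, pow_two, qAut_mul_apply, qAut_mul_apply]
            · show y.1 (y.1 (y.1 (H.e l))) = H.e l
              by_cases l1 : l = i1
              · subst l1
                simp only [map_add, hye1, hye2]
                linear_combination (norm := module) h2 • H.e i1 + h2 • H.e i2
              by_cases l2 : l = i2
              · subst l2
                simp only [map_add, hye1, hye2]
                linear_combination (norm := module) h2 • H.e i1
              simp [hya, H.X_apply h12.symm, H.X_apply h12, H.ee, H.ef, l1, l2]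
            · show y.1 (y.1 (y.1 (H.f l))) = H.f l
              by_cases l1 : l = i1
              · subst l1
                simp only [map_add, hyf1, hyf2]
                linear_combination (norm := module) h2 • H.f i2
              by_cases l2 : l = i2
              · subst l2
                simp only [map_add, hyf1, hyf2]
                linear_combination (norm := module) h2 • H.f i1 + h2 • H.f i2
              simp [hya, H.X_apply h12.symm, H.X_apply h12, H.ff, H.fe, l1, l2]
            · show y.1 (y.1 (y.1 x)) = x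
              simp [hya, H.X_apply h12.symm, H.X_apply h12, (hx i1).1, (hx i1).2, (hx i2).1, (hx i2).2]
        · refine ⟨H.N i1 i2, 4, ?_, H.N_mem h12, H.N_e_other h12 h01 h02, fun x hx => H.N_perp h12 hx,
            H.N_e_right h12, ?_,
            ((hcommX i2 i1 (Or.inr ⟨rfl, rfl⟩) 1).mul_right
              (hcommX i1 i2 (Or.inl ⟨rfl, rfl⟩) (-1))).mul_right (hcommX i2 i1 (Or.inr ⟨rfl, rfl⟩) 1)⟩
          · rw [show ((4 : ℕ) : F) = 2 * 2 by norm_num]; exact mul_ne_zero h2 h2
          · refine H.ext (fun l => ?_) (fun l => ?_) fun x hx => ?_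
            all_goals rw [show (4 : ℕ) = 2 + 2 from rfl, pow_add, pow_two, qAut_mul_apply, qAut_mul_apply,
              qAut_mul_apply]
            · show _ = H.e l
              by_cases l1 : l = i1
              · subst l1; simp [H.N_e_left h12, H.N_e_right h12]
              by_cases l2 : l = i2
              · subst l2; simp [H.N_e_left h12, H.N_e_right h12]
              simp [H.N_e_other h12 l1 l2]
            · show _ = H.f l
              by_cases l1 : l = i1
              · subst l1; simp [H.N_f_left h12, H.N_f_right h12]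
              by_cases l2 : l = i2
              · subst l2; simp [H.N_f_left h12, H.N_f_right h12]
              simp [H.N_f_other h12 l1 l2]
            · show _ = x
              simp [H.N_perp h12 hx]
      set g := y * h with hg
      have hgp : ∀ x, H.Perp x → g.1 x = x := fun x hx => by rw [hg, qAut_mul_apply, hhp x hx, hyp x hx]
      refine ⟨g, d * (Fintype.card F - 1), mul_mem (hEC ▸ hyC) (H.D_pair_mem hQ i1 i2 s),
        by rw [Nat.cast_mul]; exact mul_ne_zero hd hq1, ?_, by rw [hg, qAut_mul_apply, he0, hy0],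
        hgp z hzp, fun K hgK hbK hK => ?_⟩
      · rw [hg, hyh.symm.mul_pow, pow_mul, hyd, one_pow, one_mul, mul_comm d, pow_mul, hhq, one_pow]
      have hge2 : g.1 (H.e i2) = (lam : F) • H.e i1 := by
        rw [hg, qAut_mul_apply, he2, map_smul, hy2, hs]
        simp
      have hstep : ∀ w, H.Perp w → eich Q (H.e i1) w ∈ K → eich Q (H.e i1) ((lam : F) • τ.1 w) ∈ K := by
        intro w hw hwK
        have h1 := eich_move_mem hbK (H.qe i1) (hperpe i1 w hw) hwK
        rw [hb12, hbp w hw] at h1
        have h2 := eich_move_mem hgK (H.qe i2) (hperpe i2 _ (hτp w hw)) h1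
        rwa [hge2, hgp _ (hτp w hw), eich_smul_left Q (H.qe i1) (hperpe i1 _ (hτp w hw))] at h2
      have hev : ∀ n : ℕ, eich Q (H.e i1) (((lam : F) ^ (2 * n)) • z') ∈ K := by
        intro n
        induction n with
        | zero => rw [mul_zero, pow_zero, one_smul]; exact hstart K hbK hK
        | succ n ih =>
          have h1 := hstep _ (H.perp_smul hzp' _) ih
          have h2 := hstep _ (H.perp_smul (hτp _ (H.perp_smul hzp' _)) _) h1
          rw [map_smul, hττ, smul_smul, smul_smul] at h2
          rwa [show (lam : F) * lam * (lam : F) ^ (2 * n) = (lam : F) ^ (2 * (n + 1)) by ring] at h2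
      have hodd : ∀ n : ℕ, eich Q (H.e i1) (((lam : F) * (lam : F) ^ (2 * n)) • z) ∈ K := fun n => by
        have h1 := hstep _ (H.perp_smul hzp' _) (hev n)
        rwa [map_smul, hz', hττ, smul_smul] at h1
      have hpe : ∀ (x : V), H.Perp x → ∀ t : F, polar Q (H.e i1) (t • x) = 0 := fun x hx t => by
        rw [polar_smul_right, hperpe i1 x hx, smul_zero]
      have hA : ∀ t : F, eich Q (H.e i1) (t • z') ∈ K :=
        all_of_even_powers hlam (fun t => eich Q (H.e i1) (t • z') ∈ K) (fun r t hr ht => by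
          rw [sub_smul]; exact eich_sub_mem (H.qe i1) (hpe _ hzp' r) (hpe _ hzp' t) hr ht) hev
      have hB : ∀ t : F, eich Q (H.e i1) (((lam : F) * t) • z) ∈ K :=
        all_of_even_powers hlam (fun t => eich Q (H.e i1) (((lam : F) * t) • z) ∈ K) (fun r t hr ht => by
          rw [mul_sub, sub_smul]; exact eich_sub_mem (H.qe i1) (hpe _ hzp _) (hpe _ hzp _) hr ht) hodd
      intro w hw
      obtain ⟨r, t, rfl⟩ := hcov w hw
      rw [← eich_mul Q (H.qe i1) (hpe _ hzp r) (hpe _ hzp' t)]
      refine mul_mem ?_ (hA t)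
      have := hB ((lam : F)⁻¹ * r)
      rwa [mul_inv_cancel_left₀ lam.ne_zero] at this
    · set g := H.D i1 lam⁻¹ * H.D i1 lam⁻¹ with hg
      have hgp : ∀ x, H.Perp x → g.1 x = x := fun x hx => by
        rw [hg, qAut_mul_apply, H.D_perp i1 _ hx, H.D_perp i1 _ hx]
      refine ⟨g, Fintype.card F - 1, H.D_pair_mem hQ i1 i1 _, hq1, ?_, ?_, hgp z hzp, fun K hgK hbK hK => ?_⟩
      · rw [hg, H.D_mul, H.D_pow, hpw, H.D_one]
      · rw [hg, qAut_mul_apply, H.D_e_other h01, H.D_e_other h01]
      have hge1 : g.1 (H.e i1) = ((lam : F) * lam) • H.e i1 := by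
        rw [hg, qAut_mul_apply, H.D_e, map_smul, H.D_e, smul_smul]
        simp
      have hpe : ∀ t : F, polar Q (H.e i1) (t • z') = 0 := fun t => by
        rw [polar_smul_right, hperpe i1 z' hzp', smul_zero]
      have hev : ∀ n : ℕ, eich Q (H.e i1) (((lam : F) ^ (2 * n)) • z') ∈ K := by
        intro n
        induction n with
        | zero => rw [mul_zero, pow_zero, one_smul]; exact hstart K hbK hK
        | succ n ih =>
          have h1 := eich_move_mem hgK (H.qe i1) (hpe _) ih
          rw [hge1, hgp _ (H.perp_smul hzp' _), eich_smul_left Q (H.qe i1) (hpe _), smul_smul] at h1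
          rwa [show (lam : F) * lam * (lam : F) ^ (2 * n) = (lam : F) ^ (2 * (n + 1)) by ring] at h1
      have hA : ∀ t : F, eich Q (H.e i1) (t • z') ∈ K :=
        all_of_even_powers hlam (fun t => eich Q (H.e i1) (t • z') ∈ K) (fun r t hr ht => by
          rw [sub_smul]; exact eich_sub_mem (H.qe i1) (hpe r) (hpe t) hr ht) hev
      intro w hw
      obtain ⟨t, rfl⟩ := hcov1 w hw
      exact hA t
  set t0 := eich Q (H.e i0) z with ht0
  have ht0C : t0 ∈ commutator (qAut Q) := hEC ▸ eich_mem Q (H.qe i0) (hperpe i0 z hzp)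
  refine ⟨t0 * g, b, le_antisymm ((Subgroup.closure_le _).2 ?_) ?_⟩
  · rintro x (rfl | rfl)
    · exact mul_mem ht0C hgC
    · exact hb
  set K := Subgroup.closure ({t0 * g, b} : Set (qAut Q)) with hK
  have haK : t0 * g ∈ K := Subgroup.subset_closure (by simp)
  have hbK : b ∈ K := Subgroup.subset_closure (by simp)
  have hcomm : Commute t0 g := by
    have h := eich_conj Q g (H.qe i0) (hperpe i0 z hzp)
    rw [hg0, hgz, mul_inv_eq_iff_eq_mul] at h
    exact h.symm
  have ht0K : t0 ∈ K := by
    have h := pow_mem (pow_mem haK N) (N ^ (Fintype.card F - 2))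
    rwa [hcomm.mul_pow, hgN, mul_one, ← pow_mul, eich_pow (H.qe i0) (hperpe i0 z hzp), ← pow_succ',
      show Fintype.card F - 2 + 1 = Fintype.card F - 1 by omega, Nat.cast_pow,
      FiniteField.pow_card_sub_one_eq_one _ hN, one_smul] at h
  have hgK' : g ∈ K := by
    have := mul_mem (inv_mem ht0K) haK
    rwa [inv_mul_cancel_left] at this
  have hS1 : H.Short K (H.e i1) := hgK K hgK' hbK ht0K
  have hmove : ∀ v, Q v = 0 → (∀ x, H.Perp x → polar Q v x = 0) → H.Short K v → H.Short K (b.1 v) := by
    intro v hv hvp h w hw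
    have := eich_move_mem hbK hv (hvp _ (hτp w hw)) (h _ (hτp w hw))
    rwa [hbp _ (hτp w hw), hττ] at this
  have hunscale : ∀ v, Q v = 0 → (∀ x, H.Perp x → polar Q v x = 0) → ∀ r : F, r ≠ 0 →
      H.Short K (r • v) → H.Short K v := by
    intro v hv hvp r hr h w hw
    have := h _ (H.perp_smul hw r⁻¹)
    rwa [eich_smul_left Q hv (by rw [polar_smul_right, hvp w hw, smul_zero]), smul_smul,
      mul_inv_cancel₀ hr, one_smul] at this
  have hSe1 : ∀ n, ∀ hn' : n < k, 1 ≤ n → H.Short K (H.e ⟨n, hn'⟩) := by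
    intro n
    induction n with
    | zero => intro _ h; omega
    | succ n ih =>
      intro hn' _
      rcases Nat.eq_zero_or_pos n with rfl | hn0
      · exact hS1
      · have := hmove _ (H.qe _) (hperpe _) (ih (by omega) hn0)
        rwa [(hbcyc ⟨n, by omega⟩ ⟨n + 1, hn'⟩ rfl).1] at this
  have hSf : ∀ n, ∀ hn' : n < k, H.Short K (H.f ⟨n, hn'⟩) := by
    intro n
    induction n with
    | zero =>
      intro hn'
      have := hmove _ (H.qe _) (hperpe _) (hSe1 (k - 1) (by omega) (by omega))
      rw [hbe] at this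
      exact hunscale _ (H.qf _) (hperpf _) c hc this
    | succ n ih =>
      intro hn'
      have := hmove _ (H.qf _) (hperpf _) (ih (by omega))
      rwa [(hbcyc ⟨n, by omega⟩ ⟨n + 1, hn'⟩ rfl).2] at this
  have hSe : ∀ i, H.Short K (H.e i) := by
    intro i
    rcases Nat.eq_zero_or_pos i.val with h | h
    · obtain rfl : i = i0 := Fin.ext h
      have := hmove _ (H.qf _) (hperpf _) (hSf (k - 1) (by omega))
      rw [hbf] at this
      exact hunscale _ (H.qe _) (hperpe _) c' hc' this
    · exact hSe1 i.val i.isLt h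
  have hSf' : ∀ i, H.Short K (H.f i) := fun i => hSf i.val i.isLt
  obtain ⟨s, t, hs, ht, hst⟩ : ∃ s t, H.Perp s ∧ H.Perp t ∧ polar Q t s ≠ 0 := by
    obtain ⟨w, hw⟩ : ∃ w, polar Q z w ≠ 0 := by
      by_contra h
      push Not at h
      exact hz (hQ z h)
    refine ⟨_, z, H.decomp w, hzp, ?_⟩
    rw [polar_sub_right, ← polarBilin_apply_apply Q z (∑ i, (_ : V)), map_sum]
    simp [(hzp _).1, (hzp _).2, hw]
  have hAllE : ∀ l, All K (H.e l) := by
    intro l w hw
    rw [← sub_add_cancel w (∑ i, (polar Q w (H.f i) • H.e i + polar Q w (H.e i) • H.f i))]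
    let S : AddSubgroup V :=
      { carrier := {x | polar Q (H.e l) x = 0 ∧ eich Q (H.e l) x ∈ K}
        zero_mem' := ⟨polar_zero_right _ _, by rw [eich_zero Q (H.qe l)]; exact one_mem K⟩
        add_mem' := fun {x y} hx hy => ⟨by rw [polar_add_right, hx.1, hy.1, add_zero], by
          rw [← eich_mul Q (H.qe l) hx.1 hy.1]; exact mul_mem hx.2 hy.2⟩
        neg_mem' := fun {x} hx => ⟨by rw [polar_neg_right, hx.1, neg_zero], by
          rw [← eich_inv Q (H.qe l) hx.1]; exact inv_mem hx.2⟩ }
    suffices h : w - ∑ i, (polar Q w (H.f i) • H.e i + polar Q w (H.e i) • H.f i) +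
        ∑ i, (polar Q w (H.f i) • H.e i + polar Q w (H.e i) • H.f i) ∈ S from h.2
    refine add_mem ⟨hperpe l _ (H.decomp w), hSe l _ (H.decomp w)⟩ (sum_mem fun i _ => add_mem ?_ ?_)
    · refine ⟨by simp [H.ee], ?_⟩
      by_cases h : i = l
      · subst h
        have := eich_add_self Q (H.qe i) (polar_zero_right Q (H.e i)) (polar Q w (H.f i))
        rw [zero_add, eich_zero Q (H.qe i)] at this
        rw [this]; exact one_mem K
      · exact Frame.Short.long H (H.qe i) (H.qe l) (H.ee i l) hs ht hst (hperpe i) (hperpe l) (hSe i) (hSe l) _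
    · by_cases h : i = l
      · subst h
        rw [polar_comm Q w (H.e i), hw, zero_smul]
        exact zero_mem S
      · exact ⟨by simp [H.ef, Ne.symm h],
          Frame.Short.long H (H.qf i) (H.qe l) (by simp [H.fe, h]) hs ht hst (hperpf i) (hperpe l) (hSf' i)
            (hSe l) _⟩
  have hAllF : ∀ l, All K (H.f l) := by
    intro l w hw
    rw [← sub_add_cancel w (∑ i, (polar Q w (H.f i) • H.e i + polar Q w (H.e i) • H.f i))]
    let S : AddSubgroup V :=
      { carrier := {x | polar Q (H.f l) x = 0 ∧ eich Q (H.f l) x ∈ K}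
        zero_mem' := ⟨polar_zero_right _ _, by rw [eich_zero Q (H.qf l)]; exact one_mem K⟩
        add_mem' := fun {x y} hx hy => ⟨by rw [polar_add_right, hx.1, hy.1, add_zero], by
          rw [← eich_mul Q (H.qf l) hx.1 hy.1]; exact mul_mem hx.2 hy.2⟩
        neg_mem' := fun {x} hx => ⟨by rw [polar_neg_right, hx.1, neg_zero], by
          rw [← eich_inv Q (H.qf l) hx.1]; exact inv_mem hx.2⟩ }
    suffices h : w - ∑ i, (polar Q w (H.f i) • H.e i + polar Q w (H.e i) • H.f i) +
        ∑ i, (polar Q w (H.f i) • H.e i + polar Q w (H.e i) • H.f i) ∈ S from h.2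
    refine add_mem ⟨hperpf l _ (H.decomp w), hSf' l _ (H.decomp w)⟩ (sum_mem fun i _ => add_mem ?_ ?_)
    · by_cases h : i = l
      · subst h
        rw [polar_comm Q w (H.f i), hw, zero_smul]
        exact zero_mem S
      · exact ⟨by simp [H.fe, Ne.symm h],
          Frame.Short.long H (H.qe i) (H.qf l) (by simp [H.ef, h]) hs ht hst (hperpe i) (hperpf l) (hSe i)
            (hSf' l) _⟩
    · refine ⟨by simp [H.ff], ?_⟩
      by_cases h : i = l
      · subst h
        have := eich_add_self Q (H.qf i) (polar_zero_right Q (H.f i)) (polar Q w (H.e i))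
        rw [zero_add, eich_zero Q (H.qf i)] at this
        rw [this]; exact one_mem K
      · exact Frame.Short.long H (H.qf i) (H.qf l) (H.ff i l) hs ht hst (hperpf i) (hperpf l) (hSf' i) (hSf' l) _
  -- every singular vector is moved to a multiple of a basis vector
  have hreach : ∀ v, Q v = 0 → (∃ i, polar Q v (H.e i) ≠ 0 ∨ polar Q v (H.f i) ≠ 0) → All K v := by
    intro v hv ⟨i, hi⟩
    rcases hi with hi | hi
    · obtain ⟨w, hw, hwv⟩ := exists_eich_move Q hv (u' := polar Q v (H.e i) • H.f i)
        (by rw [quad_smul, H.qf, mul_zero]) (H.qe i) (by simp [H.fe]) hi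
      have h := ((hAllF i).smul (H.qf i) (polar Q v (H.e i))).move (by rw [quad_smul, H.qf, mul_zero])
        (inv_mem (hAllE i w hw))
      rwa [← hwv, ← qAut_mul_apply, inv_mul_cancel] at h
    · obtain ⟨w, hw, hwv⟩ := exists_eich_move Q hv (u' := polar Q v (H.f i) • H.e i)
        (by rw [quad_smul, H.qe, mul_zero]) (H.qf i) (by simp [H.ef]) hi
      have h := ((hAllE i).smul (H.qe i) (polar Q v (H.f i))).move (by rw [quad_smul, H.qe, mul_zero])
        (inv_mem (hAllF i w hw))
      rwa [← hwv, ← qAut_mul_apply, inv_mul_cancel] at h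
  have hevery : ∀ v, Q v = 0 → All K v := by
    intro v hv
    by_cases hv0 : ∃ i, polar Q v (H.e i) ≠ 0 ∨ polar Q v (H.f i) ≠ 0
    · exact hreach v hv hv0
    push Not at hv0
    by_cases hvz : v = 0
    · have := ((hAllE i0).smul (H.qe i0) 0)
      rwa [zero_smul, ← hvz] at this
    obtain ⟨w, hw⟩ : ∃ w, polar Q v w ≠ 0 := by
      by_contra h
      push Not at h
      exact hvz (hQ v h)
    set w0 := w - ∑ i, (polar Q w (H.f i) • H.e i + polar Q w (H.e i) • H.f i) with hw0
    have hvw0 : polar Q v w0 ≠ 0 := by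
      rw [hw0, polar_sub_right, ← polarBilin_apply_apply Q v (∑ i, (_ : V)), map_sum]
      simp [(hv0 _).1, (hv0 _).2, hw]
    have hp := H.decomp w
    rw [← hw0] at hp
    have hg := hAllE i0 w0 (hperpe i0 w0 hp)
    have hgv : polar Q ((eich Q (H.e i0) w0).1 v) (H.f i0) ≠ 0 := by
      rw [eich_apply Q (H.qe i0) (hperpe i0 w0 hp)]
      simpa [polar_sub_left, H.ef, (hv0 i0).1, (hv0 i0).2, (hp i0).2] using hvw0
    have h := (hreach _ (by rw [qAut_map, hv]) ⟨i0, Or.inr hgv⟩).move (by rw [qAut_map, hv]) (inv_mem hg)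
    rwa [← qAut_mul_apply, inv_mul_cancel] at h
  rw [← hEC]
  refine (Subgroup.closure_le _).2 ?_
  rintro _ ⟨v, w, hv, hvw, rfl⟩
  exact hevery v hv w hvw

end CfsgLib.Classical.QuadTwoGen
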