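/-
Two generators for the projective groups of the standard quadratic forms.
-/
import Cfsg.Agent.Lib.Classical.QuadTwoGen.Main
import Cfsg.Agent.Lib.Classical.QuadPOmega
import Cfsg.Agent.Lib.Classical.QuadBases

set_option autoImplicit false
set_option linter.unusedSectionVars false

namespace CfsgLib.Classical.QuadTwoGen

open QuadraticMap CfsgLib.Classical

variable {F : Type*} [Field F] {J : Type} [Fintype J] [DecidableEq J]

/-- The frame of the coordinate pairs. -/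
noncomputable def stdFrame (k : ℕ) (Q₀ : QuadraticForm F (J → F)) : Frame (qExt k Q₀) k where
  e i := Pi.single (.inl (.inl i)) 1
  f i := Pi.single (.inl (.inr i)) 1
  qe i := by
    have := ((basis_spec (Q := qExt k Q₀) (LinearEquiv.refl F _) (fun _ => rfl)).1 i).1
    simpa using this
  qf i := by
    have := ((basis_spec (Q := qExt k Q₀) (LinearEquiv.refl F _) (fun _ => rfl)).1 i).2
    simpa using this
  ee i j := by
    have := ((basis_spec (Q := qExt k Q₀) (LinearEquiv.refl F _) (fun _ => rfl)).2.2.1 i j).1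
    simpa using this
  ff i j := by
    have := ((basis_spec (Q := qExt k Q₀) (LinearEquiv.refl F _) (fun _ => rfl)).2.2.1 i j).2
    simpa using this
  ef i j := by
    have := (basis_spec (Q := qExt k Q₀) (LinearEquiv.refl F _) (fun _ => rfl)).2.1 i j
    simpa using this

theorem polar_single_left (k : ℕ) (Q₀ : QuadraticForm F (J → F)) (x : (Fin k ⊕ Fin k) ⊕ J → F) (i : Fin k) :
    polar (qExt k Q₀) x (Pi.single (.inl (.inl i)) 1) = x (.inl (.inr i)) ∧
      polar (qExt k Q₀) x (Pi.single (.inl (.inr i)) 1) = x (.inl (.inl i)) := by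
  have hl : ∀ y : Fin k ⊕ Fin k,
      (fun j => (Pi.single (Sum.inl y) 1 : (Fin k ⊕ Fin k) ⊕ J → F) (Sum.inr j)) = 0 :=
    fun y => funext fun j => by simp
  constructor <;> rw [polar_qExt, hl, polar_zero_right, add_zero] <;> simp [Pi.single_apply]

theorem stdFrame_perp_iff (k : ℕ) (Q₀ : QuadraticForm F (J → F)) (x : (Fin k ⊕ Fin k) ⊕ J → F) :
    (stdFrame k Q₀).Perp x ↔ ∀ i, x (.inl (.inr i)) = 0 ∧ x (.inl (.inl i)) = 0 :=
  forall_congr' fun i => by
    simp only [stdFrame, (polar_single_left k Q₀ x i).1, (polar_single_left k Q₀ x i).2]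

/-- A vector of the last summand. -/
def ext0 (k : ℕ) (w : J → F) : (Fin k ⊕ Fin k) ⊕ J → F := Sum.elim 0 w

theorem ext0_perp (k : ℕ) (Q₀ : QuadraticForm F (J → F)) (w : J → F) :
    (stdFrame k Q₀).Perp (ext0 k w) := (stdFrame_perp_iff k Q₀ _).2 fun i => by simp [ext0]

theorem ext0_q (k : ℕ) (Q₀ : QuadraticForm F (J → F)) (w : J → F) : qExt k Q₀ (ext0 k w) = Q₀ w := by
  simp [qExt_apply, ext0]

theorem ext0_polar (k : ℕ) (Q₀ : QuadraticForm F (J → F)) (w w' : J → F) :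
    polar (qExt k Q₀) (ext0 k w) (ext0 k w') = polar Q₀ w w' := by
  simp [polar_qExt, ext0]

theorem ext0_smul (k : ℕ) (c : F) (w : J → F) : c • ext0 k w = ext0 k (c • w) := by
  funext x; rcases x with x | x <;> simp [ext0]

theorem ext0_sub (k : ℕ) (w w' : J → F) : ext0 k w - ext0 k w' = ext0 k (w - w') := by
  funext x; rcases x with x | x <;> simp [ext0]

theorem ext0_add (k : ℕ) (w w' : J → F) : ext0 k w + ext0 k w' = ext0 k (w + w') := by
  funext x; rcases x with x | x <;> simp [ext0]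

theorem eq_ext0 (k : ℕ) (Q₀ : QuadraticForm F (J → F)) {x : (Fin k ⊕ Fin k) ⊕ J → F}
    (hx : (stdFrame k Q₀).Perp x) : x = ext0 k (fun j => x (.inr j)) := by
  funext y
  rcases y with (i | i) | j
  · simp [ext0, ((stdFrame_perp_iff k Q₀ x).1 hx i).2]
  · simp [ext0, ((stdFrame_perp_iff k Q₀ x).1 hx i).1]
  · rfl

variable [Fintype F] {ι : Type} [Fintype ι] [DecidableEq ι]

/-- Two generators of the projective group of a form isometric to `k` pairs and a small rest. -/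
theorem pomega_two_generated {k : ℕ} {Q₀ : QuadraticForm F (J → F)} (hQ₀ : PolarNondeg Q₀)
    (hn : 5 ≤ k + k + Fintype.card J) {u z : J → F} (hu : Q₀ u ≠ 0) (hz : z ≠ 0)
    (hcov : ∀ x : J → F, ∃ c d : F, x = c • z + d • (z - ((Q₀ u)⁻¹ * polar Q₀ z u) • u))
    (hk : 3 ≤ k ∨ (2 ≤ k ∧ (2 : F) ≠ 0 ∧
      ∀ x : J → F, ∃ d : F, x = d • (z - ((Q₀ u)⁻¹ * polar Q₀ z u) • u)))
    (Q : QuadraticForm F (ι → F)) (ε : ((Fin k ⊕ Fin k) ⊕ J → F) ≃ₗ[F] (ι → F))
    (hε : ∀ v, Q (ε v) = qExt k Q₀ v) {f : (ι → F) → F} (hf : ⇑Q = f) :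
    ∃ a b : Cfsg.POmega F f, Subgroup.closure ({a, b} : Set (Cfsg.POmega F f)) = ⊤ := by
  subst hf
  have hu' : qExt k Q₀ (ext0 k u) ≠ 0 := by rwa [ext0_q]
  have hτ : (qRefl (qExt k Q₀) hu').1 (ext0 k z) = ext0 k (z - ((Q₀ u)⁻¹ * polar Q₀ z u) • u) := by
    rw [qRefl_apply, ext0_q, ext0_polar, ext0_smul, ext0_sub]
  obtain ⟨a, b, h⟩ := (stdFrame k Q₀).exists_two_generators (polarNondeg_qExt hQ₀ k)
    (by simpa [Module.finrank_pi] using hn) hu' (ext0_perp k Q₀ u) (ext0_perp k Q₀ z)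
    (fun h => hz (funext fun j => congrFun h (.inr j)))
    (fun x hx => by
      obtain ⟨c, d, hcd⟩ := hcov fun j => x (.inr j)
      exact ⟨c, d, by rw [hτ, ext0_smul, ext0_smul, ext0_add, ← hcd]; exact eq_ext0 k Q₀ hx⟩)
    (by
      rcases hk with h | ⟨h1, h2, h3⟩
      · exact Or.inl h
      · refine Or.inr ⟨h1, h2, fun x hx => ?_⟩
        obtain ⟨d, hd⟩ := h3 fun j => x (.inr j)
        exact ⟨d, by rw [hτ, ext0_smul, ← hd]; exact eq_ext0 k Q₀ hx⟩)
  let E : qAut (qExt k Q₀) ≃* Cfsg.isometryGroup F ⇑Q := (qAutCongr ε hε).trans (isoEquiv Q).symm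
  have hE : (commutator (qAut (qExt k Q₀))).map E.toMonoidHom = Cfsg.Omega F ⇑Q := map_commutator_equiv E
  have ha : E a ∈ Cfsg.Omega F ⇑Q :=
    hE ▸ Subgroup.mem_map_of_mem _ (h ▸ Subgroup.subset_closure (by simp))
  have hb : E b ∈ Cfsg.Omega F ⇑Q :=
    hE ▸ Subgroup.mem_map_of_mem _ (h ▸ Subgroup.subset_closure (by simp))
  let a' : Cfsg.Omega F ⇑Q := ⟨E a, ha⟩
  let b' : Cfsg.Omega F ⇑Q := ⟨E b, hb⟩
  have h' : Subgroup.closure ({a', b'} : Set (Cfsg.Omega F ⇑Q)) = ⊤ := by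
    refine Subgroup.map_injective (Cfsg.Omega F ⇑Q).subtype_injective ?_
    have e : Subgroup.closure ({E a, E b} : Set (Cfsg.isometryGroup F ⇑Q)) = Cfsg.Omega F ⇑Q := by
      rw [← hE, ← h, MonoidHom.map_closure, Set.image_pair]
      rfl
    rw [MonoidHom.map_closure, Set.image_pair, ← MonoidHom.range_eq_map, Subgroup.range_subtype]
    exact e
  let π := QuotientGroup.mk' (Subgroup.center (Cfsg.Omega F ⇑Q))
  refine ⟨π a', π b', ?_⟩
  have h'' := congrArg (Subgroup.map π) h'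
  rwa [MonoidHom.map_closure, Set.image_pair,
    Subgroup.map_top_of_surjective π (QuotientGroup.mk'_surjective _)] at h''

theorem pomega_odd_two_generated (hodd : Odd (Fintype.card F)) {m : ℕ} (hm : 2 ≤ m) :
    ∃ a b : Cfsg.POmega F (Cfsg.quadFormOdd m F),
      Subgroup.closure ({a, b} : Set (Cfsg.POmega F (Cfsg.quadFormOdd m F))) = ⊤ := by
  have h2 : (2 : F) ≠ 0 := fun h => by
    haveI : CharP F 2 := CharTwo.of_one_ne_zero_of_two_eq_zero one_ne_zero h
    have := FiniteField.even_card_of_char_two (ringChar.eq F 2)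
    exact (Nat.not_even_iff_odd.2 hodd) (Nat.even_iff.2 this)
  set u : Unit → F := fun _ => 1 with hu
  have hq : qLine F u = 1 := by simp [hu]
  have hp : polar (qLine F) u u = 2 := by rw [quad_polar_self, hq, mul_one]
  have hz : u - ((qLine F u)⁻¹ * polar (qLine F) u u) • u = -u := by
    rw [hq, hp, inv_one, one_mul, two_smul]; abel
  refine pomega_two_generated (k := m) (polarNondeg_qLine h2)
    (by rw [Fintype.card_unit]; omega) (u := u) (z := u) (by rw [hq]; exact one_ne_zero)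
    (fun h => by simpa [hu] using congrFun h ()) (fun x => ⟨x (), 0, by rw [hz]; funext t; simp [hu]⟩) ?_
    (qOdd m F) (oddLin m F) (qOdd_oddLin m) (coe_qOdd m F)
  exact Or.inr ⟨hm, h2, fun x => ⟨-x (), by rw [hz]; funext t; simp [hu]⟩⟩

theorem pomega_minus_two_generated {m : ℕ} (hm : 4 ≤ m) (a b : F)
    (hab : ∀ z₁ z₂ : F, z₁ ^ 2 + a * z₁ * z₂ + b * z₂ ^ 2 = 0 → z₁ = 0 ∧ z₂ = 0) :
    ∃ g h : Cfsg.POmega F (Cfsg.quadFormMinus (m - 1) F a b),
      Subgroup.closure ({g, h} : Set (Cfsg.POmega F (Cfsg.quadFormMinus (m - 1) F a b))) = ⊤ := by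
  have hpz : ∀ w : Fin 2 → F, polar (qBin a b) (Pi.single 0 1) w = 2 * w 0 + a * w 1 := fun w => by
    simp [polar, qBin_apply]
    ring
  obtain ⟨u, hu, hu1, hB⟩ : ∃ u : Fin 2 → F, qBin a b u ≠ 0 ∧ u 1 = 1 ∧
      polar (qBin a b) (Pi.single 0 1) u ≠ 0 := by
    by_cases ha : a = 0
    · have h2 : (2 : F) ≠ 0 := fun h => by
        haveI : CharP F 2 := CharTwo.of_one_ne_zero_of_two_eq_zero one_ne_zero h
        obtain ⟨r, hr⟩ := FiniteField.isSquare_of_char_two (ringChar.eq F 2) b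
        exact one_ne_zero (hab r 1 (by rw [ha, hr]; linear_combination r * r * h)).2
      refine ⟨![1, 1], fun h => one_ne_zero (hab 1 1 ?_).1, rfl, ?_⟩
      · simpa [qBin_apply] using h
      · rw [hpz, ha]
        simpa using h2
    · refine ⟨![0, 1], fun h => one_ne_zero (hab 0 1 ?_).2, rfl, ?_⟩
      · simpa [qBin_apply] using h
      · rw [hpz]
        simpa using ha
  set z : Fin 2 → F := Pi.single 0 1 with hzdef
  set c := (qBin a b u)⁻¹ * polar (qBin a b) z u with hc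
  have hc0 : c ≠ 0 := mul_ne_zero (inv_ne_zero hu) hB
  refine pomega_two_generated (k := m - 1) (polarNondeg_qBin hab) (by rw [Fintype.card_fin]; omega)
    (u := u) (z := z) hu (fun h => by simpa [hzdef] using congrFun h 0) (fun x => ?_) (Or.inl (by omega))
    (qExt (m - 1) (qBin a b)) (LinearEquiv.refl F _) (fun _ => rfl) (coe_qExt_qBin (m - 1) a b)
  refine ⟨x 0 + x 1 / c * (1 - c * u 0), -(x 1 / c), ?_⟩
  rw [← hc]
  funext i
  fin_cases i <;> simp [hzdef, hu1] <;> field_simp <;> ring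

theorem pomega_plus_two_generated {m : ℕ} (hm : 4 ≤ m) :
    ∃ a b : Cfsg.POmega F (Cfsg.quadFormPlus m F),
      Subgroup.closure ({a, b} : Set (Cfsg.POmega F (Cfsg.quadFormPlus m F))) = ⊤ := by
  obtain ⟨n, rfl⟩ : ∃ n, m = n + 1 := ⟨m - 1, by omega⟩
  let σ : Fin (n + 1) ⊕ Fin (n + 1) ≃ (Fin n ⊕ Fin n) ⊕ (Fin 1 ⊕ Fin 1) :=
    (Equiv.sumCongr finSumFinEquiv.symm finSumFinEquiv.symm).trans (Equiv.sumSumSumComm _ _ _ _)
  have hσ : ∀ v : (Fin n ⊕ Fin n) ⊕ (Fin 1 ⊕ Fin 1) → F,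
      qPlus (n + 1) F (LinearEquiv.funCongrLeft F F σ v) = qExt n (qPlus 1 F) v := by
    intro v
    simp [qPlus, qExt_apply, LinearEquiv.funCongrLeft, σ]
    rw [Fin.sum_univ_castSucc]
    simp [finSumFinEquiv_symm_last]
  set z : Fin 1 ⊕ Fin 1 → F := Pi.single (.inl 0) 1 with hz
  set u : Fin 1 ⊕ Fin 1 → F := fun _ => 1 with hu
  have hqu : qPlus 1 F u = 1 := by simp [qPlus, hu]
  have hzu : polar (qPlus 1 F) z u = 1 := by simp [polar, qPlus, hu, hz]
  refine pomega_two_generated (k := n) (polarNondeg_qPlus 1) (by simp only [Fintype.card_sum, Fintype.card_fin]; omega)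
    (u := u) (z := z) (by rw [hqu]; exact one_ne_zero) (fun h => by simpa [hz] using congrFun h (.inl 0))
    (fun x => ?_) (Or.inl (by omega)) (qPlus (n + 1) F) (LinearEquiv.funCongrLeft F F σ) hσ (coe_qPlus (n + 1))
  refine ⟨x (.inl 0), -x (.inr 0), ?_⟩
  rw [hqu, hzu, inv_one, one_mul, one_smul]
  funext i
  rcases i with i | i <;> obtain rfl : i = 0 := Subsingleton.elim _ _ <;> simp [hz, hu]

end CfsgLib.Classical.QuadTwoGen
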